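import Mathlib.RingTheory.IntegralClosure.IsIntegral.AlmostIntegral
import Mathlib.RingTheory.IntegralClosure.IntegrallyClosed
import Mathlib.RingTheory.LocalRing.MaximalIdeal.Basic
import Mathlib.RingTheory.LocalRing.ResidueField.Basic
import Mathlib.RingTheory.Finiteness.Basic
import Mathlib.Algebra.Polynomial.EraseLead
import Mathlib.RingTheory.PolynomialAlgebra
import Mathlib.RingTheory.Polynomial.ScaleRoots
import Mathlib.RingTheory.RingHom.Finite
import Mathlib.Tactic.Ring

/-!
# Indeterminate elements of a fraction field over a normal local ring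
-/

universe u

open Polynomial

namespace Groth.AffineCompl

variable {O K : Type*} [CommRing O] [IsDomain O] [Field K] [Algebra O K] [IsFractionRing O K]

theorem mem_range_of_isIntegral [IsIntegrallyClosed O] {y : K} (hy : IsIntegral O y) :
    y ∈ (algebraMap O K).range := by
  obtain ⟨b, hb⟩ := IsIntegrallyClosed.isIntegral_iff.1 hy
  exact ⟨b, hb⟩

theorem isIntegral_of_pow_mem {y : K} {n : ℕ} (hn : 0 < n) (h : y ^ n ∈ (algebraMap O K).range) :
    IsIntegral O y := by
  obtain ⟨b, hb⟩ := h
  exact IsIntegral.of_pow hn (hb ▸ isIntegral_algebraMap)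

section Seidenberg

variable [IsLocalRing O] [IsIntegrallyClosed O] {x : K}

/-- An element which, like its inverse, lies outside a normal local ring satisfies only relations
with coefficients in the maximal ideal. -/
theorem coeff_mem_maximalIdeal (hx : x ∉ (algebraMap O K).range) (hx' : x⁻¹ ∉ (algebraMap O K).range) :
    ∀ (p : O[X]), aeval x p = 0 → ∀ i, p.coeff i ∈ IsLocalRing.maximalIdeal O := by
  intro p
  induction h : p.natDegree using Nat.strong_induction_on generalizing p with
  | _ n ih =>
    intro hp i
    rcases Nat.eq_zero_or_pos n with rfl | hn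
    · rw [eq_C_of_natDegree_eq_zero h] at hp ⊢
      rw [aeval_C, map_eq_zero_iff _ (IsFractionRing.injective O K)] at hp
      rw [hp, map_zero, coeff_zero]
      exact zero_mem _
    have hint : IsIntegral O (algebraMap O K p.leadingCoeff * x) :=
      RingHom.isIntegralElem_leadingCoeff_mul (f := algebraMap O K) p x hp
    obtain ⟨b, hb⟩ := mem_range_of_isIntegral hint
    set a := p.leadingCoeff with ha
    have hb' : b ∈ IsLocalRing.maximalIdeal O := by
      rw [IsLocalRing.mem_maximalIdeal, mem_nonunits_iff]
      intro hu
      obtain ⟨v, hv⟩ := hu.exists_right_inv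
      refine hx' ⟨a * v, ?_⟩
      have h1 : algebraMap O K a * x * algebraMap O K v = 1 := by rw [← hb, ← map_mul, hv, map_one]
      rw [map_mul]
      refine (inv_eq_of_mul_eq_one_left ?_).symm
      rw [← h1]; ring
    have ha' : a ∈ IsLocalRing.maximalIdeal O := by
      rw [IsLocalRing.mem_maximalIdeal, mem_nonunits_iff]
      intro hu
      obtain ⟨v, hv⟩ := hu.exists_right_inv
      refine hx ⟨v * b, ?_⟩
      rw [map_mul, hb, ← mul_assoc, ← map_mul, mul_comm v a, hv, map_one, one_mul]
    obtain ⟨m, rfl⟩ : ∃ m, n = m + 1 := ⟨n - 1, by omega⟩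
    let q := p.eraseLead + C b * X ^ m
    have hq : aeval x q = 0 := by
      rw [← hp]
      conv_rhs => rw [← eraseLead_add_C_mul_X_pow p]
      simp only [q, map_add, map_mul, aeval_C, map_pow, aeval_X, hb, h, ← ha]
      ring
    have hqd : q.natDegree ≤ m := by
      refine natDegree_add_le_of_degree_le ?_ (natDegree_C_mul_X_pow_le b m)
      have := eraseLead_natDegree_le p
      omega
    have hqi := ih q.natDegree (by omega) q rfl hq i
    rcases eq_or_ne i (m + 1) with rfl | hi
    · rw [← h, coeff_natDegree, ← ha]; exact ha'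
    · have e : q.coeff i = p.coeff i + if i = m then b else 0 := by
        simp only [q, coeff_add, coeff_C_mul, coeff_X_pow, mul_ite, mul_one, mul_zero]
        rw [eraseLead_coeff_of_ne i (by omega)]
      rw [e] at hqi
      split at hqi
      · simpa using Ideal.sub_mem _ hqi hb'
      · simpa using hqi

/-- The relations of an indeterminate element reduce to zero over the residue field. -/
theorem map_residue_eq_zero (hx : x ∉ (algebraMap O K).range) (hx' : x⁻¹ ∉ (algebraMap O K).range)
    {p : O[X]} (hp : aeval x p = 0) : p.map (IsLocalRing.residue O) = 0 := by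
  ext i
  rw [coeff_map, coeff_zero, IsLocalRing.residue_eq_zero_iff]
  exact coeff_mem_maximalIdeal hx hx' p hp i

/-- The relations of an element outside a normal local ring have constant term in the maximal
ideal, the inverse being a nonunit if it lies in the ring. -/
theorem coeff_zero_mem (hx : x⁻¹ ∉ (algebraMap O K).range) {p : O[X]} (hp : aeval x p = 0) :
    p.coeff 0 ∈ IsLocalRing.maximalIdeal O := by
  by_cases hxm : x ∈ (algebraMap O K).range
  · obtain ⟨c, rfl⟩ := hxm
    rw [aeval_algebraMap_apply, map_eq_zero_iff _ (IsFractionRing.injective O K)] at hp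
    have hc : c ∈ IsLocalRing.maximalIdeal O := by
      rw [IsLocalRing.mem_maximalIdeal, mem_nonunits_iff]
      intro hu
      obtain ⟨v, hv⟩ := hu.exists_right_inv
      exact hx ⟨v, (inv_eq_of_mul_eq_one_right (by rw [← map_mul, hv, map_one])).symm⟩
    have h1 := congrArg (eval c) (divX_mul_X_add p)
    have hp' : eval c p = 0 := by simpa using hp
    simp only [eval_add, eval_mul, eval_X, eval_C, hp'] at h1
    rw [eq_neg_of_add_eq_zero_right h1]
    exact neg_mem (Ideal.mul_mem_left _ _ hc)
  · exact coeff_mem_maximalIdeal hxm hx p hp 0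

end Seidenberg

section Pole

variable [IsIntegrallyClosed O]

/-- At most one power of an element outside a normal ring can be corrected by a given element. -/
theorem eq_of_pow_add_mem {f g : K} (hf : f ∉ (algebraMap O K).range) {M M' : ℕ}
    (h : f ^ M + g ∈ (algebraMap O K).range) (h' : f ^ M' + g ∈ (algebraMap O K).range) : M = M' := by
  wlog hle : M < M' generalizing M M'
  · rcases Nat.lt_trichotomy M M' with h1 | h1 | h1
    · exact this h h' h1
    · exact h1
    · exact (this h' h h1).symm
  exfalso
  obtain ⟨b, hb⟩ : f ^ M' - f ^ M ∈ (algebraMap O K).range := by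
    have := sub_mem h' h
    rwa [add_sub_add_right_eq_sub] at this
  refine hf (mem_range_of_isIntegral ⟨X ^ M' - X ^ M - C b, ?_, ?_⟩)
  · refine (monic_X_pow M').sub_of_left ?_ |>.sub_of_left ?_
    · rw [degree_X_pow, degree_X_pow]; exact_mod_cast hle
    · have h1 : (X ^ M' - X ^ M : O[X]).degree = M' := by
        rw [degree_sub_eq_left_of_degree_lt] <;> rw [degree_X_pow]
        rw [degree_X_pow]; exact_mod_cast hle
      rw [h1]
      exact lt_of_le_of_lt degree_C_le (by exact_mod_cast (show 0 < M' by omega))
  · simp [hb]

/-- The exponents at which `a * f ^ M` is regular form an initial segment. -/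
theorem mul_pow_mem_of_le {a f : K} (ha : a ∈ (algebraMap O K).range) {M N : ℕ} (hMN : M ≤ N)
    (h : a * f ^ N ∈ (algebraMap O K).range) : a * f ^ M ∈ (algebraMap O K).range := by
  rcases Nat.eq_zero_or_pos N with rfl | hN
  · rwa [Nat.le_zero.1 hMN]
  refine mem_range_of_isIntegral (isIntegral_of_pow_mem hN ?_)
  have e : (a * f ^ M) ^ N = (a * f ^ N) ^ M * a ^ (N - M) := by
    rw [mul_pow, mul_pow, ← pow_mul, ← pow_mul, mul_comm M N, mul_assoc,
      mul_comm (f ^ (N * M)), ← mul_assoc, ← pow_add, Nat.add_sub_cancel' hMN]
  rw [e]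
  exact mul_mem (pow_mem h _) (pow_mem ha _)

/-- A nonzero element times a high power of an element outside a noetherian normal ring is outside it. -/
theorem exists_forall_mul_pow_notMem [IsNoetherianRing O] {a f : K} (ha : a ∈ (algebraMap O K).range)
    (ha0 : a ≠ 0) (hf : f ∉ (algebraMap O K).range) :
    ∃ N : ℕ, ∀ M, N ≤ M → a * f ^ M ∉ (algebraMap O K).range := by
  by_contra hcon
  push Not at hcon
  obtain ⟨b, rfl⟩ := ha
  have halm : IsAlmostIntegral O f := by
    refine ⟨b, mem_nonZeroDivisors_of_ne_zero fun h => ha0 (by rw [h, map_zero]), fun n => ?_⟩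
    obtain ⟨M, hM, hmem⟩ := hcon n
    rw [Algebra.smul_def]
    exact mul_pow_mem_of_le ⟨b, rfl⟩ hM hmem
  refine hf (mem_range_of_isIntegral (halm.isIntegral_of_nonZeroDivisors_le_comap fun r hr => ?_))
  exact mem_nonZeroDivisors_of_ne_zero ((map_ne_zero_iff _ (IsFractionRing.injective O K)).2
    (nonZeroDivisors.ne_zero hr))

end Pole

/-- A finite extension of fields stays finite after adjoining a variable. -/
theorem finite_mapRingHom {k L : Type*} [CommRing k] [CommRing L] {φ : k →+* L} (hφ : φ.Finite) :
    (Polynomial.mapRingHom φ).Finite := by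
  letI := φ.toAlgebra
  letI := (Polynomial.mapRingHom φ).toAlgebra
  have : Module.Finite k L := hφ
  obtain ⟨s, hs⟩ := Module.Finite.fg_top (R := k) (M := L)
  classical
  refine ⟨⟨s.image C, ?_⟩⟩
  rw [eq_top_iff]
  intro p hpmem
  clear hpmem
  induction p using Polynomial.induction_on' with
  | add p q hp hq => exact add_mem hp hq
  | monomial n a =>
    have ha : a ∈ Submodule.span k (s : Set L) := hs ▸ trivial
    induction ha using Submodule.span_induction with
    | mem x hx =>
      have e : monomial n x = (X ^ n : k[X]) • C x := by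
        rw [Algebra.smul_def, RingHom.algebraMap_toAlgebra, map_pow, coe_mapRingHom, map_X,
          X_pow_mul, C_mul_X_pow_eq_monomial]
      rw [e]
      exact Submodule.smul_mem _ _ (Submodule.subset_span (Finset.mem_coe.2 (Finset.mem_image_of_mem C hx)))
    | zero => simp
    | add x y _ _ hx hy => rw [map_add]; exact add_mem hx hy
    | smul r x _ hx =>
      have e : monomial n (r • x) = (C r : k[X]) • monomial n x := by
        rw [Algebra.smul_def (C r : k[X]), RingHom.algebraMap_toAlgebra, coe_mapRingHom, map_C, C_mul_monomial,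
          Algebra.smul_def, RingHom.algebraMap_toAlgebra]
      rw [e]
      exact Submodule.smul_mem _ _ hx

end Groth.AffineCompl
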