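import Groth.Agent.AffineCompl.Function
import Groth.Agent.HensPair.SteinNormalization
import Groth.Agent.CohFin.ProjFinite
import Mathlib.AlgebraicGeometry.Geometrically.Connected
import Mathlib.RingTheory.Polynomial.Ideal
import Mathlib.RingTheory.Localization.AtPrime.Basic

/-!
# The complement of an affine open in a normal proper variety is connected

Let `f` have a pole along the complement and vanish at a non-closed point of the affine open.  In
the closure of the graph of `f` in `X × ℙ¹`, near `∞` with coordinate `s = 1/f`, the fibre over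
`s = 0` maps onto the complement, and a line over an indeterminate point is a horizontal curve meeting
that fibre once, so by Stein factorization the fibre is connected.
-/

universe u

open CategoryTheory CategoryTheory.Limits AlgebraicGeometry TopologicalSpace IsLocalRing Polynomial

namespace Groth.AffineCompl

variable {k : Type u} [Field k] {X : Scheme.{u}} [AlgebraicGeometry.IsIntegral X]
  (p : X ⟶ Spec (CommRingCat.of k))

/-- The base field in a local ring. -/
noncomputable def stalkBase (z : X) : k →+* X.presheaf.stalk z :=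
  (Spec.preimage (X.fromSpecStalk z ≫ p)).hom

omit [AlgebraicGeometry.IsIntegral X] in
theorem SpecMap_stalkBase (z : X) :
    Spec.map (CommRingCat.ofHom (stalkBase p z)) = X.fromSpecStalk z ≫ p :=
  Spec.map_preimage _

theorem algebraMap_comp_stalkBase (z : X) :
    (algebraMap (X.presheaf.stalk z) X.functionField).comp (stalkBase p z) =
      stalkBase p (genericPoint X) := by
  refine congrArg CommRingCat.Hom.hom (Spec.map_injective
    (a₁ := CommRingCat.ofHom ((algebraMap (X.presheaf.stalk z) X.functionField).comp (stalkBase p z)))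
    (a₂ := CommRingCat.ofHom (stalkBase p (genericPoint X))) ?_)
  rw [CommRingCat.ofHom_comp, Spec.map_comp, SpecMap_stalkBase, SpecMap_stalkBase, ← Category.assoc]
  congr 1
  exact Scheme.SpecMap_stalkSpecializes_fromSpecStalk ((genericPoint_spec X).specializes trivial)

/-- The affine line over `k`. -/
noncomputable abbrev lineMap (k : Type u) [Field k] : Spec (CommRingCat.of k[X]) ⟶ Spec (CommRingCat.of k) :=
  Spec.map (CommRingCat.ofHom (C : k →+* k[X]))

/-- Sending the coordinate to `x`. -/
noncomputable def evalAt (x : X.functionField) : k[X] →+* X.functionField :=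
  eval₂RingHom (stalkBase p (genericPoint X)) x

omit [AlgebraicGeometry.IsIntegral X] in
theorem coord_comm {S : Type u} [CommRing S] (z : X) (α : X.presheaf.stalk z →+* S) (β : k[X] →+* S)
    (h : α.comp (stalkBase p z) = β.comp C) :
    (Spec.map (CommRingCat.ofHom α) ≫ X.fromSpecStalk z) ≫ p =
      Spec.map (CommRingCat.ofHom β) ≫ lineMap k := by
  rw [Category.assoc, ← SpecMap_stalkBase, ← Spec.map_comp, ← Spec.map_comp, ← CommRingCat.ofHom_comp,
    ← CommRingCat.ofHom_comp, h]

theorem graph_comm (x : X.functionField) :
    X.fromSpecStalk (genericPoint X) ≫ p = Spec.map (CommRingCat.ofHom (evalAt p x)) ≫ lineMap k := by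
  rw [← SpecMap_stalkBase, ← Spec.map_comp, ← CommRingCat.ofHom_comp]
  congr 2
  exact RingHom.ext fun c => (eval₂_C (stalkBase p (genericPoint X)) x).symm

/-- The graph of the rational function with coordinate `x`. -/
noncomputable def graph (x : X.functionField) :
    Spec (CommRingCat.of X.functionField) ⟶ pullback p (lineMap k) :=
  pullback.lift (X.fromSpecStalk (genericPoint X)) (Spec.map (CommRingCat.ofHom (evalAt p x))) (graph_comm p x)

/-- The generic point of the graph. -/
noncomputable def graphPt (x : X.functionField) : ↥(pullback p (lineMap k)) :=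
  graph p x (closedPoint X.functionField)

/-- The relations of `x` over a local ring. -/
noncomputable def relIdeal (z : X) (x : X.functionField) : Ideal (X.presheaf.stalk z)[X] :=
  RingHom.ker (aeval x : (X.presheaf.stalk z)[X] →ₐ[X.presheaf.stalk z] X.functionField).toRingHom

/-- The closure of the graph, seen from a point `z`. -/
noncomputable def local' (z : X) (x : X.functionField) :
    Spec (CommRingCat.of ((X.presheaf.stalk z)[X] ⧸ relIdeal z x)) ⟶ pullback p (lineMap k) :=
  pullback.lift
    (Spec.map (CommRingCat.ofHom ((Ideal.Quotient.mk (relIdeal z x)).comp C)) ≫ X.fromSpecStalk z)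
    (Spec.map (CommRingCat.ofHom ((Ideal.Quotient.mk (relIdeal z x)).comp (mapRingHom (stalkBase p z)))))
    (coord_comm p z _ _ (RingHom.ext fun c => by simp))

theorem local'_mem (z : X) (x : X.functionField)
    (y : Spec (CommRingCat.of ((X.presheaf.stalk z)[X] ⧸ relIdeal z x))) :
    local' p z x y ∈ closure {graphPt p x} := by
  let j : (X.presheaf.stalk z)[X] ⧸ relIdeal z x →+* X.functionField := RingHom.kerLift _
  have hj : Function.Injective j := RingHom.kerLift_injective _
  have he : Spec.map (CommRingCat.ofHom j) ≫ local' p z x = graph p x := by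
    apply pullback.hom_ext
    · rw [Category.assoc, local', graph, pullback.lift_fst, pullback.lift_fst, ← Category.assoc,
        ← Spec.map_comp, ← CommRingCat.ofHom_comp]
      have e : (j.comp ((Ideal.Quotient.mk (relIdeal z x)).comp C)) = algebraMap (X.presheaf.stalk z) X.functionField :=
        RingHom.ext fun c => aeval_C x c
      rw [e]
      exact Scheme.SpecMap_stalkSpecializes_fromSpecStalk ((genericPoint_spec X).specializes trivial)
    · rw [Category.assoc, local', graph, pullback.lift_snd, pullback.lift_snd, ← Spec.map_comp,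
        ← CommRingCat.ofHom_comp]
      congr 2
      refine Polynomial.ringHom_ext (fun c => ?_) ?_
      · change aeval x (map (stalkBase p z) (C c)) = _
        rw [map_C, aeval_C]
        exact (RingHom.congr_fun (algebraMap_comp_stalkBase p z) c).trans (eval₂_C _ _).symm
      · change aeval x (map (stalkBase p z) Polynomial.X) = _
        rw [map_X, aeval_X]
        exact (eval₂_X _ _).symm
  have hgen : Spec.map (CommRingCat.ofHom j) (closedPoint X.functionField) ⤳ y := by
    refine (PrimeSpectrum.le_iff_specializes _ _).1 ?_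
    intro a ha
    have ha' : j a ∈ maximalIdeal X.functionField := ha
    rw [maximalIdeal_eq_bot, Ideal.mem_bot] at ha'
    rw [hj (ha'.trans (map_zero j).symm)]
    exact zero_mem _
  refine specializes_iff_mem_closure.1 ?_
  have h := hgen.map (local' p z x).continuous
  have e := congr(($he) (closedPoint X.functionField))
  rw [Scheme.Hom.comp_apply] at e
  rwa [e] at h

/-- The origin of the affine line. -/
noncomputable def origin (k : Type u) [Field k] : Spec (CommRingCat.of k[X]) :=
  Spec.map (CommRingCat.ofHom (constantCoeff : k[X] →+* k)) (closedPoint k)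

theorem origin_asIdeal : (origin k).asIdeal = Ideal.span {(Polynomial.X : k[X])} := by
  rw [← Polynomial.ker_constantCoeff]
  ext a
  change (constantCoeff a : k) ∈ maximalIdeal k ↔ _
  rw [maximalIdeal_eq_bot]
  rfl

/-- A point of the complement with a pole lifts to the fibre at infinity. -/
theorem exists_pole_point {x : X.functionField} {z : X} [IsIntegrallyClosed (X.presheaf.stalk z)]
    (hx : x⁻¹ ∉ Reg z) :
    ∃ y ∈ closure {graphPt p x},
      pullback.fst p (lineMap k) y = z ∧ pullback.snd p (lineMap k) y = origin k := by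
  let θ : (X.presheaf.stalk z)[X] ⧸ relIdeal z x →+* ResidueField (X.presheaf.stalk z) :=
    Ideal.Quotient.lift _ ((residue (X.presheaf.stalk z)).comp constantCoeff) fun q hq =>
      (residue_eq_zero_iff _).2 (coeff_zero_mem hx hq)
  let y := local' p z x (Spec.map (CommRingCat.ofHom θ) (closedPoint _))
  refine ⟨y, local'_mem p z x _, ?_, ?_⟩
  · have h : (Spec.map (CommRingCat.ofHom θ) ≫ local' p z x ≫ pullback.fst p (lineMap k)) =
        Spec.map (CommRingCat.ofHom (residue (X.presheaf.stalk z))) ≫ X.fromSpecStalk z := by
      rw [local', pullback.lift_fst, ← Category.assoc, ← Spec.map_comp, ← CommRingCat.ofHom_comp]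
      congr 3
      exact RingHom.ext fun c => by simp [θ]
    have h' := congr(($h) (closedPoint _))
    simp only [Scheme.Hom.comp_apply] at h'
    refine h'.trans ?_
    have e : Spec.map (CommRingCat.ofHom (residue (X.presheaf.stalk z)))
        (closedPoint (ResidueField (X.presheaf.stalk z))) = closedPoint (X.presheaf.stalk z) :=
      IsLocalRing.comap_closedPoint (residue (X.presheaf.stalk z))
    rw [e]
    exact Scheme.fromSpecStalk_closedPoint
  · have h : (Spec.map (CommRingCat.ofHom θ) ≫ local' p z x ≫ pullback.snd p (lineMap k)) =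
        Spec.map (CommRingCat.ofHom ((residue (X.presheaf.stalk z)).comp (stalkBase p z))) ≫
          Spec.map (CommRingCat.ofHom (constantCoeff : k[X] →+* k)) := by
      rw [local', pullback.lift_snd, ← Spec.map_comp, ← Spec.map_comp, ← CommRingCat.ofHom_comp,
        ← CommRingCat.ofHom_comp]
      congr 2
      refine Polynomial.ringHom_ext (fun c => ?_) ?_
      · simp [θ, constantCoeff_apply]
      · simp [θ, constantCoeff_apply]
    have h' := congr(($h) (closedPoint _))
    simp only [Scheme.Hom.comp_apply] at h'
    exact h'.trans (congrArg _ (Subsingleton.elim (α := PrimeSpectrum k) _ _))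

/-- Over the affine open the closure of the graph avoids the origin. -/
theorem notMem_of_graph {U : X.Opens} (hU : IsAffineOpen U) [Nonempty U] {f : Γ(X, U)}
    (hf : X.germToFunctionField U f ≠ 0) {y : ↥(pullback p (lineMap k))}
    (hy : y ∈ closure {graphPt p (X.germToFunctionField U f)⁻¹})
    (hy0 : pullback.snd p (lineMap k) y = origin k) : pullback.fst p (lineMap k) y ∉ U := by
  intro hyU
  let P := pullback p (lineMap k)
  let e := graph p (X.germToFunctionField U f)⁻¹
  let χ : P.presheaf.stalk y ⟶ CommRingCat.of X.functionField :=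
    P.presheaf.stalkSpecializes (specializes_iff_mem_closure.2 hy) ≫ Scheme.stalkClosedPointTo e
  have hχ : Spec.map χ ≫ P.fromSpecStalk y = e := by
    rw [Spec.map_comp, Category.assoc, Scheme.SpecMap_stalkSpecializes_fromSpecStalk]
    exact Scheme.Spec_stalkClosedPointTo_fromSpecStalk e
  let β : Γ(X, U) ⟶ P.presheaf.stalk y :=
    X.presheaf.germ U _ hyU ≫ (pullback.fst p (lineMap k)).stalkMap y
  have hβ : P.fromSpecStalk y ≫ pullback.fst p (lineMap k) = Spec.map β ≫ hU.fromSpec := by
    rw [← Scheme.SpecMap_stalkMap_fromSpecStalk, Spec.map_comp, Category.assoc]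
    congr 1
    exact (hU.fromSpecStalk_eq_fromSpecStalk hyU).symm
  let β' : CommRingCat.of k[X] ⟶ P.presheaf.stalk y :=
    Spec.preimage (P.fromSpecStalk y ≫ pullback.snd p (lineMap k))
  have hη : genericPoint X ∈ U :=
    ((genericPoint_spec X).mem_open_set_iff U.isOpen).mpr (by simpa using ‹Nonempty U›)
  have e1 : β ≫ χ = X.presheaf.germ U (genericPoint X) hη := by
    refine Spec.map_injective ((cancel_mono hU.fromSpec).1 ?_)
    rw [Spec.map_comp, Category.assoc, ← hβ, ← Category.assoc, hχ]
    exact (pullback.lift_fst _ _ _).trans (hU.fromSpecStalk_eq_fromSpecStalk hη).symm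
  have e2 : β' ≫ χ = CommRingCat.ofHom (evalAt p (X.germToFunctionField U f)⁻¹) := by
    refine Spec.map_injective ?_
    rw [Spec.map_comp, Spec.map_preimage, ← Category.assoc, hχ]
    exact pullback.lift_snd _ _ _
  have hm : β' Polynomial.X ∈ maximalIdeal (P.presheaf.stalk y) := by
    have h1 : Spec.map β' (closedPoint (P.presheaf.stalk y)) = origin k := by
      rw [Spec.map_preimage, Scheme.Hom.comp_apply, Scheme.fromSpecStalk_closedPoint, hy0]
    have h2 : (Polynomial.X : k[X]) ∈ (Spec.map β' (closedPoint (P.presheaf.stalk y))).asIdeal := by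
      rw [h1, origin_asIdeal]; exact Ideal.subset_span rfl
    exact h2
  have hu : IsUnit (β f * β' Polynomial.X - 1) := by
    have : IsUnit (1 - β f * β' Polynomial.X) :=
      isUnit_one_sub_self_of_mem_nonunits _ (Ideal.mul_mem_left (maximalIdeal (P.presheaf.stalk y)) (β f) hm)
    rw [← neg_sub]
    exact this.neg
  refine (hu.map χ.hom).ne_zero ?_
  rw [map_sub, map_mul, map_one, sub_eq_zero]
  have a1 : χ.hom (β f) = X.germToFunctionField U f := congr(($e1).hom f)
  have a2 : χ.hom (β' Polynomial.X) = (X.germToFunctionField U f)⁻¹ :=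
    (congr(($e2).hom Polynomial.X)).trans (eval₂_X _ _)
  rw [a1, a2]
  exact mul_inv_cancel₀ hf

/-- The main step: the fibre at infinity of the closure of the graph is connected. -/
theorem isPreconnected_fibre [IsProper p] {x : X.functionField} {q : X} (hq : IsClosed ({q} : Set X))
    [IsIntegrallyClosed (X.presheaf.stalk q)] (hxq : x ∉ Reg q) (hxq' : x⁻¹ ∉ Reg q)
    (htr : Function.Injective (evalAt p x)) :
    _root_.IsPreconnected {y : ↥(pullback p (lineMap k)) |
      y ∈ closure {graphPt p x} ∧ pullback.snd p (lineMap k) y = origin k} := by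
  classical
  set P := pullback p (lineMap k)
  set ξ := graphPt p x with hξdef
  let i := (IntMult.ptIdeal ξ).subschemeι
  haveI : AlgebraicGeometry.IsIntegral (IntMult.ptIdeal ξ).subscheme := CohTwo.isIntegral_closure_subscheme rfl
  have hr : Set.range i = closure {ξ} :=
    Groth.PropsBasic2.range_vanishingIdeal_subschemeι ⟨closure {ξ}, isClosed_closure⟩
  let g := i ≫ pullback.snd p (lineMap k)
  haveI : IsNoetherianRing (CommRingCat.of k[X]) := inferInstanceAs (IsNoetherianRing k[X])
  haveI : IsProper g := inferInstance
  let a := g.toNormalization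
  haveI : IsProper a := HensPair.isProper_toNormalization g
  haveI : GeometricallyConnected a :=
    HensPair.geometricallyConnected_toNormalization g Groth.CohFin.projFinite
  haveI : IsFinite g.fromNormalization := HensPair.isFinite_fromNormalization g Groth.CohFin.projFinite
  have hga : ∀ c, g.fromNormalization (a c) = g c := fun c => by
    rw [← Scheme.Hom.comp_apply, Scheme.Hom.toNormalization_fromNormalization]
  -- the line over `q`
  let ρ : X.presheaf.stalk q →+* ResidueField (X.presheaf.stalk q) := residue _
  let θ : (X.presheaf.stalk q)[X] ⧸ relIdeal q x →+* (ResidueField (X.presheaf.stalk q))[X] :=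
    Ideal.Quotient.lift _ (mapRingHom ρ) fun r hr => map_residue_eq_zero hxq hxq' hr
  let ι := Spec.map (CommRingCat.ofHom θ) ≫ local' p q x
  let ν := mapRingHom (ρ.comp (stalkBase p q))
  have hsnd : ι ≫ pullback.snd p (lineMap k) = Spec.map (CommRingCat.ofHom ν) := by
    rw [Category.assoc, local', pullback.lift_snd, ← Spec.map_comp, ← CommRingCat.ofHom_comp]
    congr 2
    refine Polynomial.ringHom_ext (fun c => ?_) ?_
    · simp [θ, ν]
    · simp [θ, ν]
  have hfinite : (ρ.comp (stalkBase p q)).Finite := by
    have := LocallyOfFiniteType.jacobsonSpace p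
    have : IsClosedImmersion (X.fromSpecResidueField q) := isClosed_singleton_iff_isClosedImmersion.mp hq
    have hfin : IsFinite (X.fromSpecResidueField q ≫ p) :=
      (isFinite_iff_locallyOfFiniteType_of_jacobsonSpace (f := X.fromSpecResidueField q ≫ p)).mpr inferInstance
    have e : X.fromSpecResidueField q ≫ p = Spec.map (CommRingCat.ofHom (ρ.comp (stalkBase p q))) := by
      rw [CommRingCat.ofHom_comp, Spec.map_comp, SpecMap_stalkBase, ← Category.assoc]
      rfl
    rw [e] at hfin
    exact (IsFinite.SpecMap_iff (CommRingCat.ofHom (ρ.comp (stalkBase p q)))).1 hfin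
  haveI : IsProper (ι ≫ pullback.snd p (lineMap k)) := by
    rw [hsnd]
    haveI : IsFinite (Spec.map (CommRingCat.ofHom ν)) :=
      (IsFinite.SpecMap_iff _).2 (finite_mapRingHom hfinite)
    infer_instance
  haveI : IsProper ι := IsProper.of_comp ι (pullback.snd p (lineMap k))
  -- its trace on the closure of the graph
  let Cs : Set ↥(IntMult.ptIdeal ξ).subscheme := i ⁻¹' Set.range ι
  have hC : IsClosed (a '' Cs) := a.isClosedMap _ (ι.isClosedMap.isClosed_range.preimage i.continuous)
  have hlift : ∀ t, ∃ c, i c = ι t := fun t => by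
    have : ι t ∈ closure {ξ} := by
      rw [Scheme.Hom.comp_apply]; exact local'_mem p q x _
    rwa [← hr] at this
  -- the generic points agree in the normalization
  have hξ0 : (pullback.snd p (lineMap k) ξ).asIdeal = ⊥ := by
    have h1 : pullback.snd p (lineMap k) ξ = Spec.map (CommRingCat.ofHom (evalAt p x)) (closedPoint _) := by
      rw [hξdef, graphPt, ← Scheme.Hom.comp_apply, graph, pullback.lift_snd]
    rw [h1]
    refine eq_bot_iff.2 fun b hb => ?_
    have hb' : evalAt p x b ∈ maximalIdeal X.functionField := hb
    rw [maximalIdeal_eq_bot, Ideal.mem_bot] at hb'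
    exact htr (hb'.trans (map_zero _).symm)
  let η' : Spec (CommRingCat.of (ResidueField (X.presheaf.stalk q))[X]) :=
    (⟨⊥, Ideal.isPrime_bot⟩ : PrimeSpectrum _)
  obtain ⟨c', hc'⟩ := hlift η'
  let ξ' := genericPoint ↥(IntMult.ptIdeal ξ).subscheme
  have hiξ : i ξ' = ξ := CohTwo.apply_genericPoint_eq i hr
  have hgen : a ξ' = a c' := by
    refine ModelsGraphs.GoingDownNormal.eq_of_specializes g.fromNormalization
      (((genericPoint_spec _).specializes trivial).map a.continuous) ?_
    rw [hga, hga, Scheme.Hom.comp_apply, Scheme.Hom.comp_apply, hiξ, hc', ← Scheme.Hom.comp_apply, hsnd]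
    refine PrimeSpectrum.ext (hξ0.trans ?_)
    refine (eq_bot_iff.2 fun b hb => ?_).symm
    have hb' : ν b = 0 := hb
    exact (Polynomial.map_injective _ (RingHom.injective (ρ.comp (stalkBase p q))))
      (hb'.trans (Polynomial.map_zero (f := ρ.comp (stalkBase p q))).symm)
  have hall : ∀ c, ∃ d ∈ Cs, a d = a c := fun c => by
    have : a c ∈ a '' Cs := by
      have h1 : a ξ' ∈ a '' Cs := hgen ▸ ⟨c', ⟨η', hc'.symm⟩, rfl⟩
      exact hC.closure_subset_iff.2 (Set.singleton_subset_iff.2 h1)
        (((genericPoint_spec _).specializes trivial).map a.continuous).mem_closure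
    exact this
  -- the line meets the fibre over the origin once
  have huniq : ∀ t : Spec (CommRingCat.of (ResidueField (X.presheaf.stalk q))[X]),
      Spec.map (CommRingCat.ofHom ν) t = origin k → t.asIdeal = Ideal.span {Polynomial.X} := fun t ht => by
    have hX : (Polynomial.X : k[X]) ∈ (Spec.map (CommRingCat.ofHom ν) t).asIdeal := by
      rw [ht, origin_asIdeal]; exact Ideal.subset_span rfl
    have hX' : ν Polynomial.X ∈ t.asIdeal := hX
    have hνX : ν Polynomial.X = Polynomial.X := map_X _
    rw [hνX] at hX'
    have hmax : (Ideal.span {(Polynomial.X : (ResidueField (X.presheaf.stalk q))[X])}).IsMaximal := by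
      rw [← Polynomial.ker_constantCoeff]
      exact RingHom.ker_isMaximal_of_surjective _ fun r => ⟨C r, by simp [constantCoeff_apply]⟩
    exact (hmax.eq_of_le t.isPrime.ne_top ((Ideal.span_singleton_le_iff_mem _).2 hX')).symm
  have hset : {y : ↥P | y ∈ closure {ξ} ∧ pullback.snd p (lineMap k) y = origin k} = i '' (g ⁻¹' {origin k}) := by
    ext y
    constructor
    · rintro ⟨hy, hy0⟩
      rw [← hr] at hy
      obtain ⟨c, rfl⟩ := hy
      exact ⟨c, hy0, rfl⟩
    · rintro ⟨c, hc, rfl⟩
      exact ⟨hr ▸ Set.mem_range_self c, hc⟩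
  rw [hset]
  refine IsPreconnected.image ?_ i i.continuous.continuousOn
  rcases (g ⁻¹' {origin k}).eq_empty_or_nonempty with h0 | ⟨c₀, hc₀⟩
  · rw [h0]; exact isPreconnected_empty
  have hfib : g ⁻¹' {origin k} = a ⁻¹' {a c₀} := by
    ext c
    constructor
    · intro hc
      obtain ⟨d, ⟨t, ht⟩, hd⟩ := hall c
      obtain ⟨d₀, ⟨t₀, ht₀⟩, hd₀⟩ := hall c₀
      have hzero : ∀ (e : ↥(IntMult.ptIdeal ξ).subscheme) (s), ι s = i e → a e ∈ a '' (g ⁻¹' {origin k}) →
          s.asIdeal = Ideal.span {Polynomial.X} := fun e s hs ⟨e', he', hee⟩ => by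
        refine huniq s ?_
        rw [← hsnd, Scheme.Hom.comp_apply, hs, ← Scheme.Hom.comp_apply]
        change g e = _
        rw [← hga, ← hee, hga]
        exact he'
      have e1 := hzero d t ht (hd ▸ ⟨c, hc, rfl⟩)
      have e2 := hzero d₀ t₀ ht₀ (hd₀ ▸ ⟨c₀, hc₀, rfl⟩)
      have : t = t₀ := PrimeSpectrum.ext (e1.trans e2.symm)
      subst this
      have : d = d₀ := i.isClosedEmbedding.injective (ht.symm.trans ht₀)
      change a c = a c₀
      rw [← hd, ← hd₀, this]
    · intro hc
      change g c = origin k
      rw [← hga, show a c = a c₀ from hc, hga]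
      exact hc₀
  rw [hfib]
  exact (a.isConnected_preimage_singleton _).isPreconnected

end Groth.AffineCompl
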