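import Groth.Agent.AffineCompl.Algebra
import Groth.Agent.ModelsGraphs.GoingDownNormal
import Groth.Agent.CohTwo.PushClosed
import Groth.Prelude.Def_Pi1
import Groth.Prelude.Def_IntMult
import Mathlib.AlgebraicGeometry.FunctionField
import Mathlib.AlgebraicGeometry.Morphisms.Finite
import Mathlib.AlgebraicGeometry.Morphisms.Proper

/-!
# Functions on an affine open with poles along the complement
-/

universe u

open CategoryTheory CategoryTheory.Limits AlgebraicGeometry TopologicalSpace

namespace Groth.AffineCompl

variable {X : Scheme.{u}} [IsIntegral X]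

/-- The rational functions regular at a point. -/
noncomputable def Reg (z : X) : Subring X.functionField :=
  (algebraMap (X.presheaf.stalk z) X.functionField).range

theorem reg_mono {z' z : X} (h : z' ⤳ z) : Reg z ≤ Reg z' := by
  rintro _ ⟨c, rfl⟩
  refine ⟨X.presheaf.stalkSpecializes h c, ?_⟩
  simp only [RingHom.algebraMap_toAlgebra]
  rw [← CommRingCat.comp_apply, TopCat.Presheaf.stalkSpecializes_comp]

theorem germ_mem_reg {U : X.Opens} [Nonempty U] (a : Γ(X, U)) {z : X} (hz : z ∈ U) :
    X.germToFunctionField U a ∈ Reg z :=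
  ⟨X.presheaf.germ U z hz a, Scheme.algebraMap_germ_eq_germToFunctionField X hz a⟩

/-- Some function on an affine open has a pole at a given outside point. -/
theorem exists_notMem_reg [X.IsSeparated] {U : X.Opens} (hU : IsAffineOpen U) [Nonempty U] {z : X}
    (hz : z ∉ U) : ∃ a : Γ(X, U), X.germToFunctionField U a ∉ Reg z := by
  by_contra hcon
  push Not at hcon
  let α := algebraMap (X.presheaf.stalk z) X.functionField
  have hα : Function.Injective α := IsFractionRing.injective _ _
  let φ : Γ(X, U) →+* X.presheaf.stalk z :=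
    (RingEquiv.ofBijective α.rangeRestrict ⟨fun a b h => hα (congrArg Subtype.val h),
      α.rangeRestrict_surjective⟩).symm.toRingHom.comp
      ((X.germToFunctionField U).hom.codRestrict α.range fun a => hcon a)
  have hφ : ∀ a, α (φ a) = X.germToFunctionField U a := fun a => by
    have := (RingEquiv.ofBijective α.rangeRestrict ⟨fun a b h => hα (congrArg Subtype.val h),
      α.rangeRestrict_surjective⟩).apply_symm_apply ((X.germToFunctionField U).hom.codRestrict α.range (fun a => hcon a) a)
    exact congrArg Subtype.val this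
  let j := Spec.map (CommRingCat.ofHom α)
  have hj : IsDominant j := by
    refine ⟨?_⟩
    exact (PrimeSpectrum.denseRange_comap_iff_ker_le_nilRadical _).2
      (((RingHom.injective_iff_ker_eq_bot _).1 hα).le.trans bot_le)
  have heq : X.fromSpecStalk z = Spec.map (CommRingCat.ofHom φ) ≫ hU.fromSpec := by
    refine ext_of_isDominant j ?_
    have h1 : j ≫ X.fromSpecStalk z = X.fromSpecStalk (genericPoint X) :=
      Scheme.SpecMap_stalkSpecializes_fromSpecStalk ((genericPoint_spec X).specializes trivial)
    have hη : genericPoint X ∈ U :=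
      ((genericPoint_spec X).mem_open_set_iff U.isOpen).mpr (by simpa using ‹Nonempty U›)
    rw [h1, ← hU.fromSpecStalk_eq_fromSpecStalk hη, ← Category.assoc, ← Spec.map_comp]
    show Spec.map (X.presheaf.germ U (genericPoint X) hη) ≫ hU.fromSpec = _
    congr 2
    ext a
    exact (hφ a).symm
  refine hz ?_
  have h2 : X.fromSpecStalk z (IsLocalRing.closedPoint (X.presheaf.stalk z)) = z :=
    Scheme.fromSpecStalk_closedPoint
  rw [heq] at h2
  rw [← h2]
  exact hU.range_fromSpec.le ⟨_, rfl⟩

/-- A function on an affine open vanishing at a given point with poles at finitely many outside points. -/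
theorem exists_function [X.IsSeparated] [IsLocallyNoetherian X] (hN : Pi1.IsNormalScheme X) {U : X.Opens}
    (hU : IsAffineOpen U) [Nonempty U] {w : X} (hw : w ∈ U) (hwη : w ≠ genericPoint X) {G : Set X}
    (hG : G.Finite) (hGU : ∀ z ∈ G, z ∉ U) :
    ∃ f : Γ(X, U), w ∉ X.basicOpen f ∧ ∀ z ∈ G, X.germToFunctionField U f ∉ Reg z := by
  classical
  obtain ⟨a, haw, ha0⟩ : ∃ a : Γ(X, U), w ∉ X.basicOpen a ∧ a ≠ 0 := by
    by_contra hcon
    push Not at hcon
    apply hwη
    have hη : genericPoint X ∈ U :=
      ((genericPoint_spec X).mem_open_set_iff U.isOpen).mpr (by simpa using ‹Nonempty U›)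
    have e : hU.primeIdealOf ⟨w, hw⟩ = hU.primeIdealOf ⟨genericPoint X, hη⟩ := by
      rw [hU.primeIdealOf_genericPoint, genericPoint_eq_bot_of_affine]
      refine PrimeSpectrum.ext (eq_bot_iff.2 fun b hb => ?_)
      refine hcon b fun hb' => ?_
      have h1 : hU.primeIdealOf ⟨w, hw⟩ ∈ hU.fromSpec ⁻¹ᵁ X.basicOpen b := by
        change hU.fromSpec (hU.primeIdealOf ⟨w, hw⟩) ∈ X.basicOpen b
        rwa [hU.fromSpec_primeIdealOf]
      rw [hU.fromSpec_preimage_basicOpen] at h1
      exact h1 hb
    have := congrArg hU.fromSpec e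
    rwa [hU.fromSpec_primeIdealOf, hU.fromSpec_primeIdealOf] at this
  have hnorm : ∀ z : X, IsIntegrallyClosed (X.presheaf.stalk z) := fun z => (hN z).2
  let F : Γ(X, U) → X.functionField := fun c => X.germToFunctionField U c
  -- poles everywhere
  obtain ⟨f, hf⟩ : ∃ f : Γ(X, U), ∀ z ∈ G, F f ∉ Reg z := by
    clear haw ha0
    induction G, hG using Set.Finite.induction_on with
    | empty => exact ⟨0, fun z hz => hz.elim⟩
    | @insert z₀ G _ hfin ih =>
      obtain ⟨f, hf⟩ := ih fun z hz => hGU z (Set.mem_insert_of_mem _ hz)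
      obtain ⟨g, hg⟩ := exists_notMem_reg hU (hGU z₀ (Set.mem_insert _ _))
      let bad : X → Set ℕ := fun z => {M | 0 < M ∧ F f ^ M + F g ∈ Reg z}
      have hbad : ∀ z ∈ insert z₀ G, (bad z).Finite := by
        intro z hz
        haveI := hnorm z
        by_cases hfz : F f ∈ Reg z
        · refine Set.finite_empty.subset fun M hM => ?_
          have hz0 : z = z₀ := hz.resolve_right fun h => hf z h hfz
          subst hz0
          exact hg (by simpa using sub_mem hM.2 (pow_mem hfz M))
        · exact Set.Subsingleton.finite fun M hM M' hM' =>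
            eq_of_pow_add_mem (O := X.presheaf.stalk z) hfz hM.2 hM'.2
      obtain ⟨M, hM⟩ := ((Set.Finite.biUnion (hfin.insert z₀) hbad).union (Set.finite_singleton 0)).exists_notMem
      simp only [Set.mem_union, Set.mem_iUnion, Set.mem_singleton_iff, not_or, not_exists] at hM
      refine ⟨f ^ M + g, fun z hz hmem => hM.1 z hz ⟨Nat.pos_of_ne_zero hM.2, ?_⟩⟩
      simpa [F] using hmem
  have hN' : ∀ z ∈ G, ∃ N : ℕ, ∀ M, N ≤ M → F a * F f ^ M ∈ Reg z → False := by
    intro z hz
    haveI := hnorm z
    by_cases ha : F a ∈ Reg z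
    · obtain ⟨N, hN⟩ := exists_forall_mul_pow_notMem (O := X.presheaf.stalk z) ha
        (fun h => ha0 (Scheme.germToFunctionField_injective X U (h.trans (map_zero _).symm))) (hf z hz)
      exact ⟨N, fun M hM h => hN M hM h⟩
    · -- the exponents with regular product form a finite set
      by_contra hcon
      push Not at hcon
      obtain ⟨M, hM, h1, -⟩ := hcon 0
      have h3 : F a * F f ^ M ≠ 0 := mul_ne_zero
        (fun h => ha0 (Scheme.germToFunctionField_injective X U (h.trans (map_zero _).symm)))
        (pow_ne_zero _ fun h => hf z hz (h ▸ zero_mem _))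
      obtain ⟨N, hN⟩ := exists_forall_mul_pow_notMem (O := X.presheaf.stalk z) h1 h3 (hf z hz)
      obtain ⟨M'', hM'', h4, -⟩ := hcon (M + N)
      refine hN (M'' - M) (by omega) ?_
      rwa [mul_assoc, ← pow_add, Nat.add_sub_cancel' (by omega)]
  obtain ⟨N, hNn⟩ : ∃ N : ℕ, ∀ z ∈ G, F a * F f ^ N ∈ Reg z → False := by
    choose! N hN using hN'
    exact ⟨hG.toFinset.sup N, fun z hz h => hN z hz _ (Finset.le_sup (hG.mem_toFinset.2 hz)) h⟩
  refine ⟨a * f ^ N, fun h => haw ?_, fun z hz h => hNn z hz (by simpa [F] using h)⟩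
  rw [X.basicOpen_mul] at h
  exact h.1

/-- A closed subset of a proper scheme inside an affine open consists of closed points. -/
theorem isClosed_singleton_of_closure_subset {k : Type u} [Field k] {Y : Scheme.{u}}
    (p : Y ⟶ Spec (CommRingCat.of k)) [IsProper p] {U : Y.Opens} (hU : IsAffineOpen U) {w : Y}
    (h : closure ({w} : Set Y) ⊆ U) : IsClosed ({w} : Set Y) := by
  let I := IntMult.ptIdeal w
  let Z := I.subscheme
  let ι := I.subschemeι
  haveI : AlgebraicGeometry.IsIntegral Z := CohTwo.isIntegral_closure_subscheme rfl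
  have hr : Set.range ι = closure {w} :=
    Groth.PropsBasic2.range_vanishingIdeal_subschemeι ⟨closure {w}, isClosed_closure⟩
  have hrU : Set.range ι ⊆ Set.range U.ι := by rw [hr, Scheme.Opens.range_ι]; exact h
  let l := IsOpenImmersion.lift U.ι ι hrU
  have hl : l ≫ U.ι = ι := IsOpenImmersion.lift_fac _ _ _
  haveI : IsClosedImmersion (l ≫ U.ι) := by rw [hl]; infer_instance
  haveI : IsClosedImmersion l := IsClosedImmersion.of_comp l U.ι
  haveI : IsAffine U := hU
  haveI : IsAffine Z := isAffine_of_isAffineHom l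
  haveI : IsProper (ι ≫ p) := inferInstance
  haveI : IsAffineHom (ι ≫ p) := inferInstance
  haveI : IsFinite (ι ≫ p) := IsFinite.iff_isProper_and_isAffineHom.2 ⟨inferInstance, inferInstance⟩
  have hsub : Subsingleton Z := ⟨fun a b => by
    have e : ∀ c : Z, c = genericPoint Z := fun c =>
      (ModelsGraphs.GoingDownNormal.eq_of_specializes (ι ≫ p) ((genericPoint_spec Z).specializes trivial)
        (Subsingleton.elim (α := PrimeSpectrum k) _ _)).symm
    rw [e a, e b]⟩
  have : closure ({w} : Set Y) = {w} := by
    refine subset_antisymm ?_ subset_closure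
    rw [← hr]
    rintro _ ⟨c, rfl⟩
    obtain ⟨d, hd⟩ : w ∈ Set.range ι := hr ▸ subset_closure rfl
    rw [Subsingleton.elim c d, hd]
    exact rfl
  rw [← this]
  exact isClosed_closure

end Groth.AffineCompl
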