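import Groth.Agent.AffineCompl.Connected
import Groth.Agent.Variety2.DimFiber
import Groth.Agent.S1585
import Groth.Agent.S2351

/-!
# The complement of an affine open in a proper variety is connected
-/

universe u

open CategoryTheory CategoryTheory.Limits AlgebraicGeometry TopologicalSpace Polynomial

namespace Groth.AffineCompl

variable {k : Type u} [Field k] {X : Scheme.{u}}

/-- An element outside a normal local ring is transcendental over the base field. -/
theorem evalAt_injective [AlgebraicGeometry.IsIntegral X] (p : X ⟶ Spec (CommRingCat.of k)) {q : X}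
    [IsIntegrallyClosed (X.presheaf.stalk q)] {x : X.functionField} (hx : x ∉ Reg q) :
    Function.Injective (evalAt p x) := by
  rw [injective_iff_map_eq_zero]
  intro b hb
  by_contra hb0
  refine hx (mem_range_of_isIntegral (O := X.presheaf.stalk q)
    ⟨(b * C b.leadingCoeff⁻¹).map (stalkBase p q),
      (monic_mul_leadingCoeff_inv hb0).map (stalkBase p q), ?_⟩)
  rw [eval₂_map, algebraMap_comp_stalkBase, eval₂_mul]
  change evalAt p x b * _ = 0
  rw [hb, zero_mul]

/-- The connectedness theorem for a normal variety. -/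
theorem isConnected_compl_of_normal [AlgebraicGeometry.IsIntegral X] (p : X ⟶ Spec (CommRingCat.of k))
    [IsProper p] (hN : Pi1.IsNormalScheme X) {U : X.Opens} (hU : IsAffineOpen U) {w : X} (hw : w ∈ U)
    (hwη : w ≠ genericPoint X) (hwc : ¬ IsClosed ({w} : Set X)) :
    _root_.IsConnected ((U : Set X)ᶜ) := by
  classical
  haveI : Nonempty U := ⟨⟨w, hw⟩⟩
  haveI : X.IsSeparated := ⟨Limits.terminal.comp_from p ▸ inferInstance⟩
  haveI : CompactSpace X := QuasiCompact.compactSpace_of_compactSpace p
  haveI : IsNoetherianRing (CommRingCat.of k) := inferInstanceAs (IsNoetherianRing k)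
  haveI : IsLocallyNoetherian X := LocallyOfFiniteType.isLocallyNoetherian p
  haveI : JacobsonSpace X := LocallyOfFiniteType.jacobsonSpace p
  haveI : IsNoetherian X := { }
  haveI : NoetherianSpace X := inferInstance
  have hZc : IsClosed ((U : Set X)ᶜ) := U.isOpen.isClosed_compl
  obtain ⟨S, hSf, hSc, hSi, hS⟩ := NoetherianSpace.exists_finite_set_isClosed_irreducible hZc
  let G : Set X := (fun t : S => (hSi _ t.2).genericPoint) '' Set.univ
  haveI : Finite S := hSf.to_subtype
  have hGf : G.Finite := Set.finite_univ.image _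
  have hGU : ∀ z ∈ G, z ∉ U := by
    rintro _ ⟨t, -, rfl⟩
    have h1 : (hSi _ t.2).genericPoint ∈ closure t.1 :=
      (hSi _ t.2).isGenericPoint_genericPoint_closure.mem
    rw [(hSc _ t.2).closure_eq] at h1
    have h2 : (hSi _ t.2).genericPoint ∈ (U : Set X)ᶜ := by rw [hS]; exact ⟨t.1, t.2, h1⟩
    exact h2
  have hGs : ∀ z ∈ (U : Set X)ᶜ, ∃ g ∈ G, g ⤳ z := by
    intro z hz
    rw [hS] at hz
    obtain ⟨t, ht, hzt⟩ := hz
    exact ⟨_, ⟨⟨t, ht⟩, trivial, rfl⟩,
      (hSi t ht).isGenericPoint_genericPoint_closure.specializes (subset_closure hzt)⟩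
  obtain ⟨f, hfw, hf⟩ := exists_function hN hU hw hwη hGf hGU
  set F : X.functionField := X.germToFunctionField U f
  have hpole : ∀ z ∈ (U : Set X)ᶜ, F ∉ Reg z := fun z hz => by
    obtain ⟨g, hg, hgz⟩ := hGs z hz
    exact fun h => hf g hg (reg_mono hgz h)
  -- a closed point of the complement in the closure of `w`
  obtain ⟨q, ⟨hqw, hqU⟩, hq⟩ : ∃ q ∈ closure ({w} : Set X) ∩ (U : Set X)ᶜ, IsClosed ({q} : Set X) := by
    refine Variety2.Dim.exists_isClosed_singleton_mem p (isClosed_closure.inter hZc).isLocallyClosed ?_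
    by_contra h
    refine hwc (isClosed_singleton_of_closure_subset p hU fun z hz => ?_)
    by_contra hzU
    exact h ⟨z, hz, hzU⟩
  have hF0 : F ≠ 0 := fun h => hpole q hqU (h ▸ zero_mem _)
  have hFq : F⁻¹ ∉ Reg q := fun h => by
    obtain ⟨c, hc⟩ := reg_mono (specializes_iff_mem_closure.2 hqw) h
    refine hfw ((X.mem_basicOpen f w hw).2 (IsUnit.of_mul_eq_one c ?_))
    apply IsFractionRing.injective (X.presheaf.stalk w) X.functionField
    rw [map_mul, map_one, Scheme.algebraMap_germ_eq_germToFunctionField X hw f, hc]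
    exact mul_inv_cancel₀ hF0
  haveI : IsIntegrallyClosed (X.presheaf.stalk q) := (hN q).2
  have hpre := isPreconnected_fibre p hq (x := F⁻¹) hFq (by rw [inv_inv]; exact hpole q hqU)
    (evalAt_injective p hFq)
  have hset : (U : Set X)ᶜ = pullback.fst p (lineMap k) ''
      {y | y ∈ closure {graphPt p F⁻¹} ∧ pullback.snd p (lineMap k) y = origin k} := by
    ext z
    constructor
    · intro hz
      haveI : IsIntegrallyClosed (X.presheaf.stalk z) := (hN z).2
      obtain ⟨y, hy, hy1, hy2⟩ := exists_pole_point p (x := F⁻¹) (z := z) (by rw [inv_inv]; exact hpole z hz)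
      exact ⟨y, ⟨hy, hy2⟩, hy1⟩
    · rintro ⟨y, ⟨hy, hy0⟩, rfl⟩
      exact notMem_of_graph p hU hF0 hy hy0
  refine ⟨⟨q, hqU⟩, ?_⟩
  rw [hset]
  exact hpre.image _ (pullback.fst p (lineMap k)).continuous.continuousOn

/-- The connectedness theorem for a variety. -/
theorem isConnected_compl_of_isIntegral [AlgebraicGeometry.IsIntegral X] (p : X ⟶ Spec (CommRingCat.of k))
    [IsProper p] {U : X.Opens} (hU : IsAffineOpen U) {w : X} (hw : w ∈ U)
    (hwη : w ≠ genericPoint X) (hwc : ¬ IsClosed ({w} : Set X)) :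
    _root_.IsConnected ((U : Set X)ᶜ) := by
  letI : X.Over (Spec (CommRingCat.of k)) := ⟨p⟩
  haveI : LocallyOfFiniteType (X ↘ Spec (CommRingCat.of k)) := inferInstanceAs (LocallyOfFiniteType p)
  haveI : X.IsSeparated := ⟨Limits.terminal.comp_from p ▸ inferInstance⟩
  obtain ⟨hfin, -, -, hint, hnorm⟩ := Agent.S1585.result k X
  obtain ⟨_, -, hsurj, hgen, -⟩ := Agent.S2351.result X
  let ν := Curv2.normalizationι X
  haveI : IsFinite ν := hfin
  haveI : IsProper (ν ≫ p) := inferInstance
  obtain ⟨w', hw'⟩ := ν.surjective w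
  have h := isConnected_compl_of_normal (ν ≫ p) hnorm (U := ν ⁻¹ᵁ U) (hU.preimage ν) (w := w')
    (show ν w' ∈ U by rw [hw']; exact hw)
    (fun h => hwη (by rw [← hw', h]; exact hgen))
    (fun h => hwc (by rw [← hw', ← Set.image_singleton]; exact ν.isClosedMap _ h))
  have h' := h.image ν ν.continuous.continuousOn
  rwa [show ν '' ((ν ⁻¹ᵁ U : Set _)ᶜ) = (U : Set X)ᶜ from ?_] at h'
  exact Set.image_preimage_eq ((U : Set X)ᶜ) ν.surjective

/-- A nonempty open of a variety of dimension at least two has a point neither closed nor generic. -/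
theorem exists_point [IrreducibleSpace X] (p : X ⟶ Spec (CommRingCat.of k)) [LocallyOfFiniteType p]
    (hdim : 2 ≤ topologicalKrullDim X) {U : X.Opens} (hne : (U : Set X).Nonempty) :
    ∃ w ∈ U, w ≠ genericPoint X ∧ ¬ IsClosed ({w} : Set X) ∧ Order.height w = 1 := by
  rw [Variety2.Dim.dim_eq_height_genericPoint] at hdim
  have hh : (2 : ℕ∞) ≤ Order.height (genericPoint X) := WithBot.coe_le_coe.1 hdim
  obtain ⟨u, hu, huc⟩ := Variety2.Dim.exists_isClosed_singleton_mem p U.isOpen.isLocallyClosed hne
  have hu0 : Order.height u = 0 := (Variety2.Dim.height_eq_zero_iff u).2 huc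
  have hlt : u < genericPoint X := Variety2.Dim.lt_iff.2 ⟨genericPoint_specializes u, fun e => by
    rw [← e, hu0] at hh; simp at hh⟩
  obtain ⟨c, huc', -⟩ := Variety2.Dim.exists_covBy_of_lt p hlt
  have hc : Order.height c = 1 := by rw [Variety2.Dim.height_eq_of_covBy p huc', hu0, zero_add]
  refine ⟨c, (Scheme.le_iff_specializes.1 huc'.le).mem_open U.2 hu, fun e => ?_, fun hcl => ?_, hc⟩
  · rw [← e, hc] at hh
    exact absurd hh (by decide)
  · rw [(Variety2.Dim.height_eq_zero_iff c).2 hcl] at hc
    exact zero_ne_one hc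

/-- The complement of a nonempty affine open in a proper irreducible scheme of dimension at least two
over a field is connected. -/
theorem isConnected_compl [IrreducibleSpace X] (p : X ⟶ Spec (CommRingCat.of k)) [IsProper p]
    (hdim : 2 ≤ topologicalKrullDim X) {U : X.Opens} (hU : IsAffineOpen U) (hne : (U : Set X).Nonempty) :
    _root_.IsConnected ((U : Set X)ᶜ) := by
  obtain ⟨w, hw, hwη, hwc, -⟩ := exists_point p hdim hne
  let I := IntMult.ptIdeal (genericPoint X)
  let i := I.subschemeι
  haveI : AlgebraicGeometry.IsIntegral I.subscheme := CohTwo.isIntegral_closure_subscheme rfl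
  have hr : Set.range i = closure {genericPoint X} :=
    Groth.PropsBasic2.range_vanishingIdeal_subschemeι ⟨closure {genericPoint X}, isClosed_closure⟩
  have hsurj : Function.Surjective i := fun x => by
    rw [← Set.mem_range, hr]; exact specializes_iff_mem_closure.1 (genericPoint_specializes x)
  haveI : IsProper (i ≫ p) := inferInstance
  obtain ⟨w', hw'⟩ := hsurj w
  have h := isConnected_compl_of_isIntegral (i ≫ p) (U := i ⁻¹ᵁ U) (hU.preimage i) (w := w')
    (show i w' ∈ U by rw [hw']; exact hw)
    (fun h => hwη (by rw [← hw', h]; exact CohTwo.apply_genericPoint_eq i hr))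
    (fun h => hwc (by rw [← hw', ← Set.image_singleton]; exact i.isClosedMap _ h))
  have h' := h.image i i.continuous.continuousOn
  rwa [show i '' ((i ⁻¹ᵁ U : Set _)ᶜ) = (U : Set X)ᶜ from ?_] at h'
  exact Set.image_preimage_eq ((U : Set X)ᶜ) hsurj

end Groth.AffineCompl
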